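/-
helper70, BHRSU3 (S5778, the SU_3 row): the normal-subgroup kit of BHRSU for `n ≥ 3`, `q ≥ 3`
([K-GEN], [K-PERF], [K-NORMAL] of helper37's `Lib/Helper37/BHRSU/{Kit,Normal}.lean`, which are stated for `n ≥ 4`;
the underlying `su_gen`, `exists_siegel_pair`, `orbit_all` cover `n = 3` once some `l ≠ 0` has norm `≠ 1`).
-/
import Mathlib
import Cfsg.Prelude.Def_GeometricClasses
import Cfsg.Prelude.Def_ClassicalGeometry
import Cfsg.Agent.Lib.Helper37.BHRSU.Kit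

set_option autoImplicit false
set_option linter.unusedSectionVars false

namespace Cfsg.Agent.Lib.Helper70.BHRSU3

open Cfsg Cfsg.Geo Cfsg.Agent.Lib.Helper70.AschU Cfsg.Agent.Lib.Helper37.BHRSU
open Matrix Cfsg.Agent.S0837 Cfsg.Agent.S0781 Cfsg.Agent.S2644 Cfsg.Agent.Lib.Helper37
open scoped MatrixGroups

variable {F : Type*} [Field F] [Fintype F] {n q : ℕ}

/-- for `q ≥ 3` some non-zero element has norm different from `1` -/
theorem exists_norm_ne_one (hF : Fintype.card F = q ^ 2) (hq : 3 ≤ q) (σ : F →+* F)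
    (hσ : ∀ x, σ x = x ^ q) : ∃ l : F, l ≠ 0 ∧ l * σ l ≠ 1 := by
  classical
  obtain ⟨ζ, hζ⟩ := IsCyclic.exists_generator (α := Fˣ)
  have hord : orderOf ζ = q ^ 2 - 1 := by
    rw [orderOf_eq_card_of_forall_mem_zpowers hζ, Nat.card_eq_fintype_card, Fintype.card_units, hF]
  refine ⟨(ζ : F), ζ.ne_zero, ?_⟩
  intro h
  rw [hσ, ← pow_succ'] at h
  have h2 : ζ ^ (q + 1) = 1 := by
    apply Units.ext
    rw [Units.val_pow_eq_pow_val, Units.val_one]
    exact h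
  have h3 := orderOf_dvd_of_pow_eq_one h2
  rw [hord] at h3
  have h4 := Nat.le_of_dvd (by omega) h3
  have h5 : q ^ 2 = q * q := sq q
  have h6 : 3 * q ≤ q * q := Nat.mul_le_mul_right q hq
  omega

/-- `SUg = TG σ n` for `n ≥ 3`, `q ≥ 3` -/
theorem SUg_eq_TG3 (hF : Fintype.card F = q ^ 2) (hn : 3 ≤ n) (hq : 3 ≤ q) (σ : F →+* F)
    (hσ : ∀ x, σ x = x ^ q) (hσ2 : ∀ a, σ (σ a) = a) : SUg n F q = TG σ n := by
  have hne := frob_ne_id σ hF hσ
  apply le_antisymm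
  · intro g hg
    rw [Kit.mem_SUg_iff σ hσ] at hg
    exact su_gen σ hne hσ2 n (by omega) (fun _ => exists_norm_ne_one hF hq σ hσ) g hg.1 hg.2
  · exact Kit.TG_le_SUg σ hσ hσ2

/-- [K-GEN] for `n ≥ 3`, `q ≥ 3`: `SU_n(q)` is generated by the unitary transvections. -/
theorem SUg_le_of_tv3 (hF : Fintype.card F = q ^ 2) (hn : 3 ≤ n) (hq : 3 ≤ q) (K : Subgroup (GL (Fin n) F))
    (h : ∀ g ∈ SUg n F q, (∃ (v : Fin n → F) (c : F), hermForm n F q v v = 0 ∧ c + c ^ q = 0 ∧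
      (g : Matrix (Fin n) (Fin n) F) = unitaryTransvection n q v c) → g ∈ K) : SUg n F q ≤ K := by
  obtain ⟨σ, hσ, hσ2⟩ := Cfsg.Agent.Lib.Helper13.exists_frob hF
  rw [SUg_eq_TG3 hF hn hq σ hσ hσ2]
  unfold TG
  rw [Subgroup.closure_le]
  rintro g ⟨z, c, hz, hc, hg⟩
  apply h g
  · apply Kit.TG_le_SUg σ hσ hσ2
    exact Subgroup.subset_closure ⟨z, c, hz, hc, hg⟩
  · refine ⟨z, c, ?_, ?_, ?_⟩
    · rw [hermForm_eq_hf σ hσ]; exact hz
    · rw [← hσ]; exact hc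
    · rw [hg, unitaryTransvection_eq_sieg σ hσ]
      rfl

/-- [K-PERF] for `n ≥ 3`, `q ≥ 3`: `SU_n(q)` is perfect. -/
theorem commutator_SUg3 (hF : Fintype.card F = q ^ 2) (hn : 3 ≤ n) (hq : 3 ≤ q) :
    ⁅SUg n F q, SUg n F q⁆ = SUg n F q := by
  obtain ⟨σ, hσ, hσ2⟩ := Cfsg.Agent.Lib.Helper13.exists_frob hF
  have hne := frob_ne_id σ hF hσ
  apply le_antisymm
  · rw [Subgroup.commutator_le]
    intro g₁ h₁ g₂ h₂
    exact (SUg n F q).mul_mem ((SUg n F q).mul_mem ((SUg n F q).mul_mem h₁ h₂)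
      ((SUg n F q).inv_mem h₁)) ((SUg n F q).inv_mem h₂)
  · apply SUg_le_of_tv3 hF hn hq
    rintro g hg ⟨v, c, hv, hc, hgm⟩
    have hvv : hf σ v v = 0 := by rw [← hermForm_eq_hf σ hσ]; exact hv
    have hc' : c + σ c = 0 := by rw [hσ]; exact hc
    by_cases hv0 : v = 0
    · have : g = 1 := by
        apply Units.ext
        rw [hgm, hv0]
        unfold unitaryTransvection
        simp
      rw [this]
      exact Subgroup.one_mem _
    obtain ⟨u₁, u₂, β₁, β₂, hu₁, hu₂, hβ₁, hβ₂, hcomm⟩ :=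
      exists_siegel_pair σ hne hσ2 hn v hv0 hvv c hc'
    set B : GL (Fin n) F := siegGL σ hσ2 v u₁ β₁ hvv hu₁ hβ₁ with hB
    set C : GL (Fin n) F := siegGL σ hσ2 v u₂ β₂ hvv hu₂ hβ₂ with hC
    have hBm : B ∈ SUg n F q := by
      rw [Kit.mem_SUg_iff σ hσ]
      exact ⟨siegGL_mem_UG σ hσ2 v u₁ β₁ hvv hu₁ hβ₁, sieg_det σ hσ2 v u₁ β₁ hvv hu₁⟩
    have hCm : C ∈ SUg n F q := by
      rw [Kit.mem_SUg_iff σ hσ]
      exact ⟨siegGL_mem_UG σ hσ2 v u₂ β₂ hvv hu₂ hβ₂, sieg_det σ hσ2 v u₂ β₂ hvv hu₂⟩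
    have hgBC : g = B * C * B⁻¹ * C⁻¹ := by
      rw [eq_mul_inv_iff_mul_eq, eq_mul_inv_iff_mul_eq]
      apply Units.ext
      show (g : Matrix (Fin n) (Fin n) F) * sieg σ v u₂ β₂ * sieg σ v u₁ β₁ =
        sieg σ v u₁ β₁ * sieg σ v u₂ β₂
      rw [hgm, unitaryTransvection_eq_sieg σ hσ, hcomm, Matrix.mul_assoc]
    have hmem := Subgroup.commutator_mem_commutator hBm hCm
    rw [commutatorElement_def] at hmem
    rw [hgBC]
    exact hmem

/-- [K-NORMAL] for `n ≥ 3`, `q ≥ 3`: a subgroup of `SU_n(q)` normalised by `SU_n(q)` is scalar or everything. -/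
theorem normal_le_scalars_or_eq3 (hF : Fintype.card F = q ^ 2) (hn : 3 ≤ n) (hq : 3 ≤ q)
    (N : Subgroup (GL (Fin n) F))
    (hN : N ≤ SUg n F q) (hnorm : ∀ g ∈ SUg n F q, ∀ x ∈ N, g * x * g⁻¹ ∈ N) :
    N ≤ scalars (Fin n) F ∨ N = SUg n F q := by
  obtain ⟨σ, hσ, hσ2⟩ := Cfsg.Agent.Lib.Helper13.exists_frob hF
  have hne := frob_ne_id σ hF hσ
  have hST := SUg_eq_TG3 hF hn hq σ hσ hσ2
  by_cases hNZ : N ≤ scalars (Fin n) F
  · exact Or.inl hNZ
  right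
  obtain ⟨n₀, hn₀, hn₀Z⟩ : ∃ n₀ ∈ N, n₀ ∉ scalars (Fin n) F := by
    by_contra hcon
    push Not at hcon
    exact hNZ hcon
  -- the abstract group
  let ι : ↥(SUg n F q) →* GL (Fin n) F := (SUg n F q).subtype
  have hinj : Function.Injective ι := Subgroup.subtype_injective _
  have hTG : ∀ g, ι g ∈ TG σ n := by
    intro g
    rw [← hST]
    exact g.2
  have hex : ∀ t ∈ TG σ n, ∃ g, ι g = t := by
    intro t ht
    rw [← hST] at ht
    exact ⟨⟨t, ht⟩, rfl⟩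
  have hperf : commutator ↥(SUg n F q) = ⊤ := by
    apply Subgroup.map_injective hinj
    rw [commutator_def, Subgroup.map_commutator]
    have htop : (⊤ : Subgroup ↥(SUg n F q)).map ι = SUg n F q := by
      rw [← MonoidHom.range_eq_map]
      exact Subgroup.range_subtype _
    rw [htop]
    exact commutator_SUg3 hF hn hq
  have hNn : (N.subgroupOf (SUg n F q)).Normal := by
    constructor
    intro x hx g
    rw [Subgroup.mem_subgroupOf] at hx ⊢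
    exact hnorm g g.2 x hx
  obtain ⟨u₀, hu₀, huu₀, hmove⟩ : ∃ u₀ : Fin n → F, u₀ ≠ 0 ∧ hf σ u₀ u₀ = 0 ∧
      ¬ ∃ l : F, (n₀ : Matrix (Fin n) (Fin n) F) *ᵥ u₀ = l • u₀ := by
    by_contra hcon
    push Not at hcon
    apply hn₀Z
    obtain ⟨c, hc⟩ := Kit.scalar_of_isotropic_eigen' σ hne hσ2 (by omega) (n₀ : Matrix (Fin n) (Fin n) F) hcon
    rw [mem_scalars_iff]
    have hc0 : c ≠ 0 := by
      rintro rfl
      have h1 : (n₀ : Matrix (Fin n) (Fin n) F) = 0 := by rw [hc, zero_smul]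
      have h2 : ((n₀⁻¹ * n₀ : GL (Fin n) F) : Matrix (Fin n) (Fin n) F) = 0 := by
        rw [Units.val_mul, h1, mul_zero]
      rw [inv_mul_cancel, Units.val_one] at h2
      have : Nontrivial (Fin n) := ⟨⟨⟨0, by omega⟩, ⟨1, by omega⟩, by simp [Fin.ext_iff]⟩⟩
      have h3 := congrFun (congrFun h2 ⟨0, by omega⟩) ⟨0, by omega⟩
      simp at h3
    exact ⟨Units.mk0 c hc0, hc⟩
  have hn₀S : n₀ ∈ SUg n F q := hN hn₀
  have horb := orbit_all σ ι hne hσ2 hn (Or.inr (exists_norm_ne_one hF hq σ hσ)) hTG hex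
    (N.subgroupOf (SUg n F q)) u₀ hu₀ huu₀
    ⟨n₀, hn₀S⟩ (by rw [Subgroup.mem_subgroupOf]; exact hn₀) hmove
  have hsup := sup_Tsub_eq_top σ ι hσ2 hinj hTG hex (N.subgroupOf (SUg n F q)) u₀ huu₀ horb
  have hle := hNn.commutator_le_of_self_sup_commutative_eq_top hsup (Tsub_comm σ ι hinj u₀ huu₀)
  rw [hperf, top_le_iff] at hle
  apply le_antisymm hN
  intro g hg
  have : (⟨g, hg⟩ : ↥(SUg n F q)) ∈ N.subgroupOf (SUg n F q) := by rw [hle]; exact Subgroup.mem_top _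
  rw [Subgroup.mem_subgroupOf] at this
  exact this

end Cfsg.Agent.Lib.Helper70.BHRSU3
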