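/-
helper70, BHRSU3 (S5778, the SU_3 row): a maximal subgroup of `SU_n(q)`, `n ≥ 3`, is `M ⊓ SL` for a member `M` of a geometric class, or
residual - straight from the hypothesis-free `aschbacher_unitary_R` (no normal-subgroup kit needed), with [PROPER] as a hypothesis.
-/
import Mathlib
import Cfsg.Prelude.Def_GeometricClasses
import Cfsg.Agent.Lib.Helper37.BHRSU.MaxOf
import Cfsg.Agent.Lib.Helper70.AschU.Main

set_option autoImplicit false

namespace Cfsg.Agent.Lib.Helper70.BHRSU3

open Cfsg Cfsg.Geo Cfsg.Agent.Lib.Helper70.AschU Cfsg.Agent.Lib.Helper37.BHRSU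
open scoped MatrixGroups

variable {F : Type*} [Field F] [Fintype F] {n q : ℕ}

/-- [MAXU] for every `n ≥ 3`, [PROPER] as a hypothesis -/
theorem maximal_eq_member_of_three_le (hF : Fintype.card F = q ^ 2) (hn : 3 ≤ n)
    (hprop : ∀ M : Subgroup (GL (Fin n) F), InUnitaryClassR n F q M → ¬ SUg n F q ≤ M)
    (H : Subgroup (GL (Fin n) F)) (hH : IsMaximalIn (SUg n F q) H) :
    (∃ M : Subgroup (GL (Fin n) F), InUnitaryClassR n F q M ∧ H = M ⊓ specialLinear (Fin n) F) ∨
      InUnitaryResidualClass H := by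
  have hHle : H ≤ SUg n F q := hH.1.le
  rcases aschbacher_unitary_R hF hn H (hHle.trans inf_le_left) with ⟨M, hM, hle⟩ | hres
  · left
    refine ⟨M, hM, ?_⟩
    have h1 : H ≤ M ⊓ specialLinear (Fin n) F := le_inf hle (hHle.trans inf_le_right)
    have h2 : M ⊓ specialLinear (Fin n) F ≤ SUg n F q :=
      inf_le_inf_right _ (le_GU_of_inUnitaryClassR M hM)
    rcases hH.2 _ h1 h2 with h | h
    · exact h.symm
    · exact absurd (h.ge.trans inf_le_left) (hprop M hM)
  · exact Or.inr hres

end Cfsg.Agent.Lib.Helper70.BHRSU3
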